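import Mathlib

/-!
# Ideal sheaves on affine schemes and their restriction along open immersions
-/

set_option autoImplicit false
set_option linter.style.haveILetI false
set_option backward.isDefEq.respectTransparency false
universe u

open CategoryTheory CategoryTheory.Limits AlgebraicGeometry
open AlgebraicGeometry.Scheme (IdealSheafData)

noncomputable section

namespace GeomSmoothingLib

section Idl

variable {S S' : CommRingCat.{u}}

/-- The ideal of an ideal sheaf on an affine scheme. -/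
def idl (K : (Spec S).IdealSheafData) : Ideal S :=
  (K.ideal ⟨⊤, isAffineOpen_top _⟩).comap (Scheme.ΓSpecIso S).inv.hom

theorem idl_mono {K K' : (Spec S).IdealSheafData} (h : K ≤ K') : idl K ≤ idl K' :=
  Ideal.comap_mono (IdealSheafData.le_def.1 h _)

theorem eq_of_idl {K K' : (Spec S).IdealSheafData} (h : idl K = idl K') : K = K' :=
  IdealSheafData.ext_of_iSup_eq_top (fun _ : Unit => ⟨⊤, isAffineOpen_top _⟩) (iSup_const) fun _ =>
    Ideal.comap_injective_of_surjective _ (ConcreteCategory.bijective_of_isIso (Scheme.ΓSpecIso S).inv).2 h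

theorem idl_ker (φ : S ⟶ S') : idl (Spec.map φ).ker = RingHom.ker φ.hom := by
  ext x
  rw [idl, Ideal.mem_comap, Scheme.Hom.ker_apply, RingHom.mem_ker, RingHom.mem_ker]
  have h : (Spec.map φ).app ⊤ ((Scheme.ΓSpecIso S).inv x) = (Scheme.ΓSpecIso S').inv (φ x) :=
    (RingHom.congr_fun (congrArg CommRingCat.Hom.hom (Scheme.ΓSpecIso_inv_naturality φ)) x).symm
  show (Spec.map φ).app ⊤ ((Scheme.ΓSpecIso S).inv x) = 0 ↔ _
  rw [h]
  exact map_eq_zero_iff _ (ConcreteCategory.bijective_of_isIso (Scheme.ΓSpecIso S').inv).1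

/-- The quotient map of an ideal, as a map of rings. -/
abbrev mkQ (L : Ideal S) : S ⟶ CommRingCat.of (S ⧸ L) := CommRingCat.ofHom (Ideal.Quotient.mk L)

theorem idl_ker_mkQ (L : Ideal S) : idl (Spec.map (mkQ L)).ker = L := by
  rw [idl_ker]; exact Ideal.mk_ker

theorem ker_mkQ_idl (K : (Spec S).IdealSheafData) : (Spec.map (mkQ (idl K))).ker = K :=
  eq_of_idl (idl_ker_mkQ _)

theorem ker_mkQ_mono {L L' : Ideal S} (h : L ≤ L') : (Spec.map (mkQ L)).ker ≤ (Spec.map (mkQ L')).ker := by
  have : Spec.map (mkQ L') = Spec.map (CommRingCat.ofHom (Ideal.Quotient.factor h)) ≫ Spec.map (mkQ L) := by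
    rw [← Spec.map_comp, ← CommRingCat.ofHom_comp, Ideal.Quotient.factor_comp_mk]
  rw [this]
  exact Scheme.Hom.le_ker_comp _ _

theorem map_ker_mkQ (φ : S ⟶ S') (L : Ideal S') :
    idl ((Spec.map (mkQ L)).ker.map (Spec.map φ)) = L.comap φ.hom := by
  rw [IdealSheafData.map_ker, ← Spec.map_comp, idl_ker]
  ext x
  rw [RingHom.mem_ker, Ideal.mem_comap]
  exact Ideal.Quotient.eq_zero_iff_mem

theorem idl_comap (φ : S ⟶ S') (K : (Spec S).IdealSheafData) :
    idl (K.comap (Spec.map φ)) = (idl K).map φ.hom := by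
  refine le_antisymm ?_ ?_
  · have h : K.comap (Spec.map φ) ≤ (Spec.map (mkQ ((idl K).map φ.hom))).ker := by
      rw [← IdealSheafData.le_map_iff_comap_le]
      calc K = (Spec.map (mkQ (idl K))).ker := (ker_mkQ_idl K).symm
        _ ≤ (Spec.map (mkQ (((idl K).map φ.hom).comap φ.hom))).ker := ker_mkQ_mono Ideal.le_comap_map
        _ = _ := eq_of_idl (by rw [idl_ker_mkQ, map_ker_mkQ])
    exact (idl_mono h).trans (idl_ker_mkQ _).le
  · rw [Ideal.map_le_iff_le_comap, ← map_ker_mkQ φ (idl (K.comap (Spec.map φ))), ker_mkQ_idl]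
    exact idl_mono (IdealSheafData.le_map_comap _ _)

end Idl

section OpenImmersion

variable {X Y U V : Scheme.{u}}

/-- Kernels commute with restriction along open immersions. -/
theorem ker_comap_of_isPullback (f : X ⟶ Y) (f' : U ⟶ V) (iU : U ⟶ X) (iV : V ⟶ Y) [IsOpenImmersion iV]
    [QuasiCompact f] (H : IsPullback f' iU iV f) : f.ker.comap iV = f'.ker := by
  refine IdealSheafData.ext (funext fun W => ?_)
  rw [IdealSheafData.ideal_comap_of_isOpenImmersion,
    Scheme.ker_ideal_of_isPullback_of_isOpenImmersion f f' iU iV H W]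

/-- Ideal sheaves agreeing on the charts of a cover are equal. -/
theorem eq_of_comap_cover {ι : Type*} (V : ι → Scheme.{u}) [∀ i, IsAffine (V i)] (h : ∀ i, V i ⟶ Y)
    [∀ i, IsOpenImmersion (h i)] (hcov : ∀ y, ∃ i, y ∈ Set.range (h i)) (K K' : Y.IdealSheafData)
    (heq : ∀ i, K.comap (h i) = K'.comap (h i)) : K = K' := by
  refine IdealSheafData.ext_of_iSup_eq_top
    (fun i => ⟨(h i) ''ᵁ ⊤, (isAffineOpen_top (V i)).image_of_isOpenImmersion (h i)⟩)
    (top_le_iff.1 fun y _ => ?_) fun i => ?_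
  · obtain ⟨i, v, rfl⟩ := hcov y
    exact TopologicalSpace.Opens.mem_iSup.2 ⟨i, ⟨v, trivial, rfl⟩⟩
  · have e := congrArg (fun L => L.ideal ⟨⊤, isAffineOpen_top (V i)⟩) (heq i)
    simp only [IdealSheafData.ideal_comap_of_isOpenImmersion] at e
    exact Ideal.comap_injective_of_surjective _ (ConcreteCategory.bijective_of_isIso ((h i).appIso ⊤).inv).2 e

end OpenImmersion

end GeomSmoothingLib
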