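import Groth.Agent.GeomSmoothingLib.Model
import Groth.Agent.DepthLib.SmoothCons
import Groth.Agent.NormFin.Field
import Groth.Agent.NormFin.Curve
import Groth.Agent.FlatLib.SmoothSource
import Groth.Agent.FibDimLib.Formula
import Groth.Agent.CommAlgDim.Integral

/-!
# From a smoothing over a power series ring to a smoothing over a curve
-/

set_option autoImplicit false
set_option linter.style.haveILetI false
set_option backward.isDefEq.respectTransparency false
set_option maxHeartbeats 1600000
universe u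

open CategoryTheory CategoryTheory.Limits AlgebraicGeometry
open scoped TensorProduct

noncomputable section

namespace GeomSmoothingLib

/-- Smoothness at the generic points is detected after a field extension. -/
theorem mem_smoothLocus_of_generic {A L : Type u} [CommRing A] [IsDomain A] [Field L] [Algebra A L]
    (hinj : Function.Injective (algebraMap A L)) {Z : Scheme.{u}} (z : Z ⟶ Spec (CommRingCat.of A))
    [LocallyOfFinitePresentation z] [Flat z]
    (hsm : Smooth (pullback.snd z (sA (k := A) L))) (x : Z)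
    (hx : z x = (⟨⊥, Ideal.isPrime_bot⟩ : PrimeSpectrum A)) : x ∈ z.smoothLocus := by
  obtain ⟨_, ⟨W, hW, rfl⟩, hxW, -⟩ := Z.isBasis_affineOpens.exists_subset_of_mem_open (Set.mem_univ x) isOpen_univ
  letI : Algebra A Γ(Z, W) := (Spec.preimage (hW.fromSpec ≫ z)).hom.toAlgebra
  have hu : hW.fromSpec ≫ z = sA (k := A) Γ(Z, W) := (Spec.map_preimage _).symm
  haveI : LocallyOfFinitePresentation (sA (k := A) Γ(Z, W)) := by rw [← hu]; infer_instance
  haveI : Algebra.FinitePresentation A Γ(Z, W) := RingHom.finitePresentation_algebraMap.1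
    ((HasRingHomProperty.Spec_iff (P := @LocallyOfFinitePresentation)).1 ‹_›)
  haveI : Module.Flat A Γ(Z, W) := by
    have : Flat (sA (k := A) Γ(Z, W)) := by rw [← hu]; infer_instance
    exact RingHom.flat_algebraMap_iff.1 ((HasRingHomProperty.Spec_iff (P := @Flat)).1 this)
  haveI : Algebra.Smooth L (L ⊗[A] Γ(Z, W)) := by
    haveI := isOpenImmersion_chart z hW.fromSpec hu L
    have h : Smooth (chart z hW.fromSpec hu L ≫ pullback.snd z (sA (k := A) L)) := inferInstance
    rw [chart_snd] at h
    exact RingHom.smooth_algebraMap.1 ((HasRingHomProperty.Spec_iff (P := @Smooth)).1 h)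
  obtain ⟨b, hb⟩ : x ∈ Set.range hW.fromSpec := by rw [hW.range_fromSpec]; exact hxW
  -- a point over `b` in the extended algebra
  obtain ⟨w, hw⟩ : ∃ w : Spec (CommRingCat.of (L ⊗[A] Γ(Z, W))), Spec.map (inR (R := Γ(Z, W)) (k := A) L) w = b := by
    have hη : sA (k := A) L (⟨⊥, Ideal.isPrime_bot⟩ : PrimeSpectrum L) = z x := by
      rw [hx]
      exact PrimeSpectrum.ext ((RingHom.injective_iff_ker_eq_bot _).1 hinj)
    obtain ⟨y, hy, -⟩ := Scheme.Pullback.exists_preimage_pullback (f := z) (g := sA (k := A) L) x _ hη.symm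
    obtain ⟨w, rfl⟩ := mem_range_chart z hW.fromSpec hu L y (by
      rw [hy, hW.range_fromSpec]
      exact hxW)
    refine ⟨w, hW.fromSpec.isOpenEmbedding.injective ?_⟩
    rw [hb]
    show (Spec.map (inR (R := Γ(Z, W)) (k := A) L) ≫ hW.fromSpec) w = x
    rw [← (isPullback_chart z hW.fromSpec hu L).w]
    exact hy
  have hfib : (b : PrimeSpectrum Γ(Z, W)) ∈ DepthLib.fibSmooth A Γ(Z, W) := by
    have h1 : (w : PrimeSpectrum (L ⊗[A] Γ(Z, W))) ∈ DepthLib.fibSmooth L (L ⊗[A] Γ(Z, W)) := by
      rw [← DepthLib.smoothLocus_eq_fibSmooth, Algebra.smoothLocus_eq_univ_iff.2 inferInstance]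
      trivial
    rw [DepthLib.fibSmooth_baseChange] at h1
    rw [← hw]
    exact h1
  rw [← DepthLib.smoothLocus_eq_fibSmooth] at hfib
  have h2 : (b : Spec (CommRingCat.of Γ(Z, W))) ∈ (sA (k := A) Γ(Z, W)).smoothLocus :=
    (DepthLib.mem_smoothLocus_spec_iff b).2 hfib
  have h3 := Scheme.Hom.preimage_smoothLocus_eq hW.fromSpec z
  have key : ∀ (g : Spec Γ(Z, W) ⟶ Spec (CommRingCat.of A)) [LocallyOfFinitePresentation g],
      g = hW.fromSpec ≫ z → b ∈ g.smoothLocus → b ∈ (hW.fromSpec ≫ z).smoothLocus := by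
    rintro g _ rfl h
    exact h
  have h4 : b ∈ (hW.fromSpec ≫ z).smoothLocus := key (sA (k := A) Γ(Z, W)) hu.symm h2
  rw [← h3] at h4
  rw [← hb]
  exact h4

/-- Through a closed point of an affine variety of positive dimension there is a smooth curve mapping generically
into a given dense open. -/
theorem exists_curve {k A : Type u} [Field k] [IsAlgClosed k] [CommRing A] [IsDomain A] [Algebra k A]
    [Algebra.FiniteType k A] (φ : A →ₐ[k] k) (t : A) (ht0 : t ≠ 0) (ht : φ t = 0) (g : A) (hg : g ≠ 0) :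
    ∃ (B : Type u) (_ : CommRing B) (_ : IsDomain B) (_ : Algebra k B) (f : A →ₐ[k] B) (ψ : B →ₐ[k] k),
      Algebra.Smooth k B ∧ ringKrullDim B = 1 ∧ ψ.comp f = φ ∧ f g ≠ 0 := by
  classical
  haveI : IsNoetherianRing A := Algebra.FiniteType.isNoetherianRing k A
  let m : Ideal A := RingHom.ker φ
  haveI hm : m.IsMaximal := RingHom.ker_isMaximal_of_surjective φ fun c => ⟨algebraMap k A c, by simp⟩
  obtain ⟨h, hhm, hh0, hgh⟩ : ∃ h, h ∈ m ∧ h ≠ 0 ∧ ∀ q : Ideal A, q.IsPrime → h ∉ q → g ∉ q :=
    ⟨t * g, m.mul_mem_right g ht, mul_ne_zero ht0 hg, fun q hq hh hgq => hh (q.mul_mem_left t hgq)⟩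
  obtain ⟨q, hq, -, hqm, hhq, himm⟩ :=
    NormFinLib.exists_prime_immediate_notMem m h hhm ⊥ bot_le (fun hb => hh0 hb)
  let D := A ⧸ q
  haveI : IsDomain D := Ideal.Quotient.isDomain q
  haveI : Algebra.FiniteType k D := inferInstance
  let mD : Ideal D := m.map (Ideal.Quotient.mk q)
  have hker : ∀ a ∈ q, φ a = 0 := fun a ha => RingHom.mem_ker.1 (hqm.le ha)
  let φD : D →ₐ[k] k := Ideal.Quotient.liftₐ q φ hker
  let L := FractionRing D
  let B := integralClosure D L
  haveI : Module.Finite D B := NormFinLib.finite_integralClosure_of_finiteType_field k D L L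
  haveI : Algebra.FiniteType k B := Algebra.FiniteType.trans (S := D) inferInstance inferInstance
  haveI : IsNoetherianRing B := Algebra.FiniteType.isNoetherianRing k B
  haveI : Algebra.IsIntegral D B := Algebra.IsIntegral.of_finite D B
  have hinjDB : Function.Injective (algebraMap D B) := fun a b hab =>
    IsFractionRing.injective D L (congrArg Subtype.val hab)
  -- the maximal ideal of the point
  haveI : (RingHom.ker φD).IsMaximal :=
    RingHom.ker_isMaximal_of_surjective φD fun c => ⟨algebraMap k D c, by simp⟩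
  obtain ⟨P, hP, hPover⟩ := Ideal.exists_ideal_over_maximal_of_isIntegral (S := B) (RingHom.ker φD)
    (by rw [(RingHom.injective_iff_ker_eq_bot _).1 hinjDB]; exact bot_le)
  haveI := hP
  have hdimD : ringKrullDim D = 1 := by
    have hht : (RingHom.ker φD).height = 1 := by
      refine le_antisymm ?_ ?_
      · refine Ideal.height_le_iff.2 fun Q hQ hlt => ?_
        haveI := hQ
        have hQc : (Q.comap (Ideal.Quotient.mk q)).IsPrime := Ideal.IsPrime.comap _
        have h1 : q ≤ Q.comap (Ideal.Quotient.mk q) := fun a ha => by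
          rw [Ideal.mem_comap, Ideal.Quotient.eq_zero_iff_mem.2 ha]; exact Q.zero_mem
        have h2 : Q.comap (Ideal.Quotient.mk q) ≤ m := fun a ha => hlt.le (Ideal.mem_comap.1 ha)
        rcases himm _ hQc h1 h2 with e | e
        · have : Q = ⊥ := by
            rw [← Ideal.map_comap_of_surjective _ Ideal.Quotient.mk_surjective Q, e]
            exact Ideal.map_quotient_self q
          rw [this]
          simp
        · exfalso
          refine hlt.not_ge fun b hb => ?_
          obtain ⟨a, rfl⟩ := Ideal.Quotient.mk_surjective b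
          exact Ideal.mem_comap.1 (e ▸ (show a ∈ m from hb))
      · rw [Order.one_le_iff_pos, pos_iff_ne_zero, Ne, Ideal.height_eq_zero_iff_eq_bot]
        · intro h0
          obtain ⟨a, ham, haq⟩ := SetLike.exists_of_lt hqm
          have : Ideal.Quotient.mk q a ∈ RingHom.ker φD := ham
          rw [h0, Ideal.mem_bot, Ideal.Quotient.eq_zero_iff_mem] at this
          exact haq this
    letI : Field (D ⧸ RingHom.ker φD) := Ideal.Quotient.field _
    have h := FibDimLib.ringKrullDim_quotient_add_height_affine k D (RingHom.ker φD)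
    rw [ringKrullDim_eq_zero_of_field, zero_add, hht] at h
    rw [← h]
    rfl
  have hdim : ringKrullDim B = 1 := by
    rw [← hdimD]
    exact (CommAlgDim.ringKrullDim_eq_of_integral D B hinjDB)
  haveI : Ring.KrullDimLE 1 B := Ring.krullDimLE_iff.2 hdim.le
  haveI : Ring.DimensionLEOne B := ⟨fun {p} hp0 hp => Ideal.IsPrime.isMaximal_of_ne_bot hp hp0⟩
  haveI : IsIntegrallyClosed B := integralClosure.isIntegrallyClosedOfFiniteExtension L
  haveI : IsDedekindDomain B := { }
  have hsmooth : Algebra.Smooth k B := FlatLib.smooth_of_isRegularRing_of_perfectField k B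
  letI : Field (B ⧸ P) := Ideal.Quotient.field P
  haveI : Module.Finite k (B ⧸ P) := finite_of_finite_type_of_isJacobsonRing k (B ⧸ P)
  haveI : Algebra.IsAlgebraic k (B ⧸ P) := Algebra.IsAlgebraic.of_finite k _
  let e : k ≃ₐ[k] (B ⧸ P) := AlgEquiv.ofBijective (Algebra.ofId k (B ⧸ P))
    IsAlgClosed.algebraMap_bijective_of_isIntegral
  let ψ : B →ₐ[k] k := e.symm.toAlgHom.comp (Ideal.Quotient.mkₐ k P)
  let f : A →ₐ[k] B := (IsScalarTower.toAlgHom k D B).comp (Ideal.Quotient.mkₐ k q)
  refine ⟨B, inferInstance, inferInstance, inferInstance, f, ψ, hsmooth, hdim, ?_, ?_⟩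
  · refine AlgHom.ext fun a => ?_
    have h1 : a - algebraMap k A (φ a) ∈ m := by simp [m]
    have h2 : Ideal.Quotient.mk q (a - algebraMap k A (φ a)) ∈ RingHom.ker φD := h1
    rw [← hPover] at h2
    have h3 : ψ (f (a - algebraMap k A (φ a))) = 0 := by
      show e.symm (Ideal.Quotient.mk P (algebraMap D B (Ideal.Quotient.mk q (a - algebraMap k A (φ a))))) = 0
      rw [Ideal.Quotient.eq_zero_iff_mem.2 (Ideal.mem_comap.1 h2), map_zero]
    rwa [map_sub, map_sub, AlgHom.commutes, AlgHom.commutes, sub_eq_zero] at h3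
  · intro h0
    refine hgh q hq hhq ?_
    rw [← Ideal.Quotient.eq_zero_iff_mem]
    exact hinjDB (h0.trans (map_zero _).symm)

end GeomSmoothingLib
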