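import Groth.Agent.GeomSmoothingLib.Stage
import Groth.Agent.GeomSmoothingLib.IdealSpec

/-!
# Flat closed subschemes over a ring come from algebras of finite type
-/

set_option autoImplicit false
set_option linter.style.haveILetI false
set_option backward.isDefEq.respectTransparency false
set_option maxHeartbeats 1600000
set_option synthInstance.maxHeartbeats 400000
universe u

open CategoryTheory CategoryTheory.Limits AlgebraicGeometry
open scoped TensorProduct

noncomputable section

namespace GeomSmoothingLib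

variable {k : Type u} [CommRing k] {Q : Scheme.{u}} (q : Q ⟶ Spec (CommRingCat.of k))

/-- The spectrum of an algebra over the base. -/
abbrev sA (A : Type u) [CommRing A] [Algebra k A] : Spec (CommRingCat.of A) ⟶ Spec (CommRingCat.of k) :=
  Spec.map (CommRingCat.ofHom (algebraMap k A))

/-- The change of scalars. -/
abbrev qA (A : Type u) [CommRing A] [Algebra k A] : Scheme.{u} := pullback q (sA A)

section Change

variable (A A' : Type u) [CommRing A] [Algebra k A] [CommRing A'] [Algebra k A'] [Algebra A A']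
  [IsScalarTower k A A']

/-- The comparison of two changes of scalars. -/
def gQ : qA q A' ⟶ qA q A :=
  pullback.lift (pullback.fst _ _) (pullback.snd _ _ ≫ Spec.map (CommRingCat.ofHom (algebraMap A A'))) (by
    rw [Category.assoc, ← Spec.map_comp, ← CommRingCat.ofHom_comp, ← IsScalarTower.algebraMap_eq]
    exact pullback.condition)

theorem isPullback_gQ : IsPullback (gQ q A A') (pullback.snd q (sA A')) (pullback.snd q (sA A))
    (Spec.map (CommRingCat.ofHom (algebraMap A A'))) := by
  refine IsPullback.of_right ?_ (pullback.lift_snd _ _ _) (IsPullback.of_hasPullback q (sA A))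
  have e : Spec.map (CommRingCat.ofHom (algebraMap A A')) ≫ sA A = sA (k := k) A' := by
    rw [← Spec.map_comp, ← CommRingCat.ofHom_comp, ← IsScalarTower.algebraMap_eq]
  rw [e, gQ, pullback.lift_fst]
  exact IsPullback.of_hasPullback q (sA A')

end Change

section Chart

variable {R : Type u} [CommRing R] [Algebra k R] (u : Spec (CommRingCat.of R) ⟶ Q)
  (hu : u ≫ q = sA R) (A : Type u) [CommRing A] [Algebra k A]

/-- Right inclusion. -/
abbrev inR : CommRingCat.of R ⟶ CommRingCat.of (A ⊗[k] R) :=
  CommRingCat.ofHom (Algebra.TensorProduct.includeRight : R →ₐ[k] A ⊗[k] R).toRingHom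

/-- Left inclusion. -/
abbrev inL : CommRingCat.of A ⟶ CommRingCat.of (A ⊗[k] R) :=
  CommRingCat.ofHom (algebraMap A (A ⊗[k] R))

/-- The chart of the change of scalars. -/
def chart : Spec (CommRingCat.of (A ⊗[k] R)) ⟶ qA q A :=
  pullback.lift (Spec.map (inR A) ≫ u) (Spec.map (inL (R := R) A)) (by
    rw [Category.assoc, hu, ← Spec.map_comp, ← Spec.map_comp]
    congr 1
    refine CommRingCat.hom_ext (RingHom.ext fun c => ?_)
    exact (Algebra.TensorProduct.includeRight.commutes c).trans (IsScalarTower.algebraMap_apply k A _ c))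

theorem chart_snd : chart q u hu A ≫ pullback.snd q (sA A) = Spec.map (inL A) := pullback.lift_snd _ _ _

theorem isPullback_chart :
    IsPullback (chart q u hu A) (Spec.map (inR A)) (pullback.fst q (sA A)) u := by
  refine IsPullback.flip (IsPullback.of_bot ?_ (pullback.lift_fst _ _ _).symm (IsPullback.of_hasPullback q (sA A)).flip.flip)
  rw [hu, chart, pullback.lift_snd]
  exact (isPullback_SpecMap_of_isPushout _ _ _ _ (CommRingCat.isPushout_tensorProduct k A R)).flip

theorem isOpenImmersion_chart [IsOpenImmersion u] : IsOpenImmersion (chart q u hu A) :=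
  MorphismProperty.of_isPullback (P := @IsOpenImmersion) (isPullback_chart q u hu A).flip ‹_›

theorem mem_range_chart (y : qA q A) (h : pullback.fst q (sA A) y ∈ Set.range u) :
    y ∈ Set.range (chart q u hu A) := by
  obtain ⟨r, hr⟩ := h
  obtain ⟨w, hw, -⟩ := Scheme.Pullback.exists_preimage_pullback (f := pullback.fst q (sA A)) (g := u) y r hr.symm
  refine ⟨(isPullback_chart q u hu A).isoPullback.inv w, ?_⟩
  rw [← Scheme.Hom.comp_apply, IsPullback.isoPullback_inv_fst]
  exact hw

variable (A' : Type u) [CommRing A'] [Algebra k A'] [Algebra A A'] [IsScalarTower k A A']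

/-- The extension map between the charts. -/
abbrev extC : CommRingCat.of (A ⊗[k] R) ⟶ CommRingCat.of (A' ⊗[k] R) :=
  CommRingCat.ofHom (extMap k R A A').toRingHom

theorem inR_extC : inR (R := R) (k := k) A ≫ extC A A' = inR A' := by
  refine CommRingCat.hom_ext (RingHom.ext fun r => ?_)
  simp [extMap]

theorem chart_gQ : chart q u hu A' ≫ gQ q A A' = Spec.map (extC A A') ≫ chart q u hu A := by
  refine pullback.hom_ext ?_ ?_
  · simp only [chart, gQ, Category.assoc, pullback.lift_fst]
    rw [← Category.assoc (Spec.map (extC A A')), ← Spec.map_comp, inR_extC]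
  · simp only [chart, gQ, Category.assoc, pullback.lift_snd, pullback.lift_snd_assoc]
    rw [← Spec.map_comp, ← Spec.map_comp]
    congr 1

theorem isPullback_chart_gQ :
    IsPullback (chart q u hu A') (Spec.map (extC A A')) (gQ q A A') (chart q u hu A) := by
  refine IsPullback.of_bot ?_ (chart_gQ q u hu A A') (isPullback_chart q u hu A)
  rw [gQ, pullback.lift_fst, ← Spec.map_comp, inR_extC]
  exact isPullback_chart q u hu A'

end Chart

/-- The chart of a closed image. -/
theorem exists_closed_chart {S : CommRingCat.{u}} {Y X : Scheme.{u}} (c : Spec S ⟶ Y) [IsOpenImmersion c]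
    (f : X ⟶ Y) (L : Ideal S) (hL : L = idl (f.ker.comap c)) :
    ∃ h : Spec (CommRingCat.of (S ⧸ L)) ⟶ f.image, IsOpenImmersion h ∧
      IsPullback (Spec.map (CommRingCat.ofHom (Ideal.Quotient.mk L))) h c f.imageι := by
  subst hL
  haveI : IsClosedImmersion (Spec.map (CommRingCat.ofHom (Ideal.Quotient.mk (idl (f.ker.comap c))))) :=
    IsClosedImmersion.spec_of_surjective _ Ideal.Quotient.mk_surjective
  have he := ker_mkQ_idl (f.ker.comap c)
  have hi : f.imageι.ker = f.ker := Scheme.IdealSheafData.ker_subschemeι _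
  have hle : f.imageι.ker ≤
      (Spec.map (CommRingCat.ofHom (Ideal.Quotient.mk (idl (f.ker.comap c)))) ≫ c).ker := by
    rw [hi, ← Scheme.IdealSheafData.map_ker, Scheme.IdealSheafData.le_map_iff_comap_le]
    exact he.ge
  have H : IsPullback (Spec.map (CommRingCat.ofHom (Ideal.Quotient.mk (idl (f.ker.comap c)))))
      (IsClosedImmersion.lift _ _ hle) c f.imageι :=
    isPullback_of_isClosedImmersion _ _ _ _ (IsClosedImmersion.lift_fac _ _ _).symm (by rw [hi]; exact he.symm)
  exact ⟨_, MorphismProperty.of_isPullback (P := @IsOpenImmersion) H inferInstance, H⟩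

section Main

variable (T : Type u) [CommRing T] [Algebra k T] {P : Scheme.{u}} (ι : P ⟶ qA q T) [IsClosedImmersion ι]
variable {R : Type u} [CommRing R] [Algebra k R] (u : Spec (CommRingCat.of R) ⟶ Q) (hu : u ≫ q = sA R)

/-- The ideal of the closed subscheme in a chart. -/
def chartIdeal : Ideal (T ⊗[k] R) := idl (ι.ker.comap (chart q u hu T))

/-- The closed subscheme in a chart. -/
abbrev chartSub : Spec (CommRingCat.of ((T ⊗[k] R) ⧸ chartIdeal q T ι u hu)) ⟶ Spec (CommRingCat.of (T ⊗[k] R)) :=
  Spec.map (CommRingCat.ofHom (Ideal.Quotient.mk (chartIdeal q T ι u hu)))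

theorem ker_chartSub : (chartSub q T ι u hu).ker = ι.ker.comap (chart q u hu T) := ker_mkQ_idl _

theorem exists_isPullback_chartSub : ∃ f : Spec (CommRingCat.of ((T ⊗[k] R) ⧸ chartIdeal q T ι u hu)) ⟶ P,
    IsPullback (chartSub q T ι u hu) f (chart q u hu T) ι := by
  haveI : IsClosedImmersion (chartSub q T ι u hu) :=
    IsClosedImmersion.spec_of_surjective _ Ideal.Quotient.mk_surjective
  have hle : ι.ker ≤ (chartSub q T ι u hu ≫ chart q u hu T).ker := by
    rw [← Scheme.IdealSheafData.map_ker, Scheme.IdealSheafData.le_map_iff_comap_le, ker_chartSub]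
  exact ⟨IsClosedImmersion.lift ι _ hle, isPullback_of_isClosedImmersion _ _ _ _
    (IsClosedImmersion.lift_fac _ _ _).symm (ker_chartSub q T ι u hu).symm⟩

theorem flat_chartIdeal [IsOpenImmersion u] [Flat (ι ≫ pullback.snd q (sA T))] :
    Module.Flat T ((T ⊗[k] R) ⧸ chartIdeal q T ι u hu) := by
  obtain ⟨f, hf⟩ := exists_isPullback_chartSub q T ι u hu
  haveI := isOpenImmersion_chart q u hu T
  haveI : IsOpenImmersion f := MorphismProperty.of_isPullback (P := @IsOpenImmersion) hf inferInstance
  have he : f ≫ ι ≫ pullback.snd q (sA T) =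
      Spec.map (CommRingCat.ofHom (algebraMap T ((T ⊗[k] R) ⧸ chartIdeal q T ι u hu))) := by
    rw [← hf.w_assoc, chart_snd, ← Spec.map_comp]
    congr 1
  haveI : Flat (Spec.map (CommRingCat.ofHom (algebraMap T ((T ⊗[k] R) ⧸ chartIdeal q T ι u hu)))) := by
    rw [← he]; infer_instance
  exact RingHom.flat_algebraMap_iff.1 ((HasRingHomProperty.Spec_iff (P := @Flat)).1 this)

variable (A : Type u) [CommRing A] [Algebra k A] [Algebra A T] [IsScalarTower k A T]

theorem comap_image_chart [IsOpenImmersion u] [QuasiCompact (ι ≫ gQ q A T)] :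
    idl ((ι ≫ gQ q A T).ker.comap (chart q u hu A)) =
      (chartIdeal q T ι u hu).comap (extMap k R A T).toRingHom := by
  obtain ⟨f, hf⟩ := exists_isPullback_chartSub q T ι u hu
  haveI := isOpenImmersion_chart q u hu A
  have h : IsPullback (chartSub q T ι u hu ≫ Spec.map (extC A T)) f (chart q u hu A) (ι ≫ gQ q A T) :=
    hf.paste_horiz (isPullback_chart_gQ q u hu A T).flip
  rw [ker_comap_of_isPullback (ι ≫ gQ q A T) _ f (chart q u hu A) h, ← Scheme.IdealSheafData.map_ker]
  exact map_ker_mkQ (extC A T) (chartIdeal q T ι u hu)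

/-- The chart of the image. -/
theorem exists_image_chart [IsOpenImmersion u] [QuasiCompact (ι ≫ gQ q A T)] :
    ∃ h : Spec (CommRingCat.of ((A ⊗[k] R) ⧸ (chartIdeal q T ι u hu).comap (extMap k R A T).toRingHom)) ⟶
        (ι ≫ gQ q A T).image,
      IsOpenImmersion h ∧
      IsPullback (Spec.map (CommRingCat.ofHom
          (Ideal.Quotient.mk ((chartIdeal q T ι u hu).comap (extMap k R A T).toRingHom))))
        h (chart q u hu A) (ι ≫ gQ q A T).imageι := by
  haveI := isOpenImmersion_chart q u hu A
  exact exists_closed_chart (chart q u hu A) (ι ≫ gQ q A T) _ (comap_image_chart q T ι u hu A).symm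

/-- The chart of the image is flat when the ideal is. -/
theorem flat_image_chart (hflat : Module.Flat A ((A ⊗[k] R) ⧸ (chartIdeal q T ι u hu).comap (extMap k R A T).toRingHom))
    (h : Spec (CommRingCat.of ((A ⊗[k] R) ⧸ (chartIdeal q T ι u hu).comap (extMap k R A T).toRingHom)) ⟶
        (ι ≫ gQ q A T).image)
    (H : IsPullback (Spec.map (CommRingCat.ofHom
          (Ideal.Quotient.mk ((chartIdeal q T ι u hu).comap (extMap k R A T).toRingHom))))
        h (chart q u hu A) (ι ≫ gQ q A T).imageι) :
    Flat (h ≫ (ι ≫ gQ q A T).imageι ≫ pullback.snd q (sA A)) := by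
  rw [← H.w_assoc, chart_snd, ← Spec.map_comp]
  exact (HasRingHomProperty.Spec_iff (P := @Flat)).2 (RingHom.flat_algebraMap_iff.2 hflat)

end Main

/-- A flat closed subscheme over an algebra comes from a stage of finite type. -/
theorem exists_flat_model [IsNoetherianRing k] [LocallyOfFiniteType q] [QuasiCompact q]
    (T : Type u) [CommRing T] [Algebra k T] [IsNoetherianRing T] (t : T) {P : Scheme.{u}} (ι : P ⟶ qA q T)
    [IsClosedImmersion ι] [Flat (ι ≫ pullback.snd q (sA T))] :
    ∃ (A : Subalgebra k T) (_ : A.FG) (_ : t ∈ A) (Z : Scheme.{u}) (j : Z ⟶ qA q A) (_ : IsClosedImmersion j)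
      (g : P ⟶ Z), Flat (j ≫ pullback.snd q (sA A)) ∧
        IsPullback g (ι ≫ pullback.snd q (sA T)) (j ≫ pullback.snd q (sA A))
          (Spec.map (CommRingCat.ofHom (algebraMap A T))) := by
  classical
  haveI : CompactSpace Q := QuasiCompact.compactSpace_of_compactSpace q
  obtain ⟨I, hI, RR, uu, huo, hcov⟩ : ∃ (I : Type u) (_ : Finite I) (RR : I → CommRingCat.{u})
      (uu : ∀ i, Spec (RR i) ⟶ Q), (∀ i, IsOpenImmersion (uu i)) ∧ ∀ x, ∃ i, x ∈ Set.range (uu i) := by
    let 𝒰 := Q.affineCover.finiteSubcover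
    haveI : ∀ i, IsAffine (𝒰.X i) := fun i => by
      show IsAffine (Q.affineCover.X _); infer_instance
    refine ⟨𝒰.I₀, inferInstance, fun i => Γ(𝒰.X i, ⊤), fun i => (𝒰.X i).isoSpec.inv ≫ 𝒰.f i,
      fun i => inferInstance, fun x => ?_⟩
    obtain ⟨i, v, hv⟩ := 𝒰.exists_eq x
    refine ⟨i, (𝒰.X i).isoSpec.hom v, ?_⟩
    rw [← Scheme.Hom.comp_apply, ← Category.assoc, Iso.hom_inv_id, Category.id_comp]
    exact hv
  letI algR : ∀ i, Algebra k (RR i) := fun i => (Spec.preimage (uu i ≫ q)).hom.toAlgebra
  have hu : ∀ i, uu i ≫ q = sA (k := k) (RR i) := fun i => (Spec.map_preimage _).symm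
  haveI : ∀ i, Algebra.FiniteType k (RR i) := fun i => by
    have : LocallyOfFiniteType (Spec.map (CommRingCat.ofHom (algebraMap k (RR i)))) := by
      have h := hu i
      change uu i ≫ q = Spec.map (CommRingCat.ofHom (algebraMap k (RR i))) at h
      rw [← h]; infer_instance
    exact RingHom.finiteType_algebraMap.1 ((HasRingHomProperty.Spec_iff (P := @LocallyOfFiniteType)).1 this)
  let J : ∀ i, Ideal (T ⊗[k] (RR i)) := fun i => chartIdeal q T ι (uu i) (hu i)
  have hflat : ∀ i, Module.Flat T ((T ⊗[k] (RR i)) ⧸ J i) := fun i => flat_chartIdeal q T ι (uu i) (hu i)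
  have hfg : ∀ i, (J i).FG := fun i => by
    haveI : IsNoetherianRing (T ⊗[k] (RR i)) := Algebra.FiniteType.isNoetherianRing T _
    exact IsNoetherian.noetherian _
  have hstage : ∀ i, ∃ A : Subalgebra k T, A.FG ∧ GoodStage T (J i) A := fun i =>
    haveI := hflat i
    exists_goodStage T (J i) (hfg i)
  choose AA hAfg hAgood using hstage
  haveI := Fintype.ofFinite I
  let A : Subalgebra k T := Algebra.adjoin k {t} ⊔ Finset.univ.sup AA
  have hsup : ∀ s : Finset I, (s.sup AA).FG := fun s => by
    induction s using Finset.induction with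
    | empty => simpa using Subalgebra.fg_bot
    | insert a s _ ih => rw [Finset.sup_insert]; exact (hAfg a).sup ih
  have hA : A.FG := (Subalgebra.fg_def.2 ⟨{t}, Set.finite_singleton t, rfl⟩).sup (hsup _)
  have hgood : ∀ i, GoodStage T (J i) A := fun i =>
    (hAgood i).mono T ((Finset.le_sup (Finset.mem_univ i)).trans le_sup_right)
  have htA : t ∈ A := (le_sup_left : Algebra.adjoin k {t} ≤ A) (Algebra.subset_adjoin rfl)
  haveI : IsAffineHom (gQ q A T) := MorphismProperty.of_isPullback (P := @IsAffineHom)
    (isPullback_gQ q A T).flip inferInstance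
  let f := ι ≫ gQ q A T
  haveI : QuasiCompact f := inferInstance
  have hcovA : ∀ y : qA q A, ∃ i, y ∈ Set.range (chart q (uu i) (hu i) A) := fun y =>
    (hcov (pullback.fst q (sA A) y)).imp fun i hi => mem_range_chart q _ _ A y hi
  have hcovT : ∀ y : qA q T, ∃ i, y ∈ Set.range (chart q (uu i) (hu i) T) := fun y =>
    (hcov (pullback.fst q (sA T) y)).imp fun i hi => mem_range_chart q _ _ T y hi
  haveI : ∀ i, IsOpenImmersion (chart q (uu i) (hu i) A) := fun i => isOpenImmersion_chart q _ _ A
  haveI : ∀ i, IsOpenImmersion (chart q (uu i) (hu i) T) := fun i => isOpenImmersion_chart q _ _ T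
  have hker : f.ker.comap (gQ q A T) = ι.ker := by
    refine eq_of_comap_cover (fun i => Spec (CommRingCat.of (T ⊗[k] (RR i))))
      (fun i => chart q (uu i) (hu i) T) hcovT _ _ fun i => eq_of_idl ?_
    rw [← Scheme.IdealSheafData.comap_comp, chart_gQ, Scheme.IdealSheafData.comap_comp, idl_comap,
      comap_image_chart q T ι (uu i) (hu i) A]
    exact (hgood i).2
  refine ⟨A, hA, htA, f.image, f.imageι, inferInstance, f.toImage, ?_, ?_⟩
  · -- flatness on the charts
    have hsub := fun i => exists_image_chart q T ι (uu i) (hu i) A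
    choose h ho hh using hsub
    let 𝒲 : f.image.OpenCover :=
      { I₀ := I
        X := fun i => _
        f := h
        mem₀ := by
          rw [Scheme.presieve₀_mem_precoverage_iff]
          refine ⟨fun z => ?_, ho⟩
          obtain ⟨i, w, hw⟩ := hcovA (f.imageι z)
          obtain ⟨p, -, hp⟩ := Scheme.Pullback.exists_preimage_pullback
            (f := chart q (uu i) (hu i) A) (g := f.imageι) w z hw
          refine ⟨i, (hh i).isoPullback.inv p, ?_⟩
          rw [← Scheme.Hom.comp_apply, IsPullback.isoPullback_inv_snd]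
          exact hp }
    refine IsZariskiLocalAtSource.of_openCover (P := @Flat) 𝒲 fun i => ?_
    exact flat_image_chart q T ι (uu i) (hu i) A (hgood i).1 (h i) (hh i)
  · have h : IsPullback ι f.toImage (gQ q A T) f.imageι :=
      isPullback_of_isClosedImmersion _ _ _ _ f.toImage_imageι.symm
        (by rw [Scheme.Hom.imageι, Scheme.IdealSheafData.ker_subschemeι, hker])
    exact h.flip.paste_vert (isPullback_gQ q A T)

end GeomSmoothingLib
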