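import Groth.Agent.S3554
import Mathlib
import Groth.Agent.ChowLib.Embed

/-!
# Projective space over a ring as a base change
-/

set_option autoImplicit false
set_option linter.style.haveILetI false
set_option maxHeartbeats 1000000
universe u

open CategoryTheory CategoryTheory.Limits AlgebraicGeometry TopologicalSpace

attribute [local instance] MvPolynomial.algebraMvPolynomial

noncomputable section

namespace GeomSmoothingLib

variable (n : ℕ) (R : Type u) [CommRing R]

/-- `P^n_R → P^n_ℤ`. -/
theorem exists_projSpace_map : ∃ q : CohB1.ProjSpace n R ⟶ CohB1.ProjSpace n (ULift.{u} ℤ),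
    IsPullback q (CohB1.ProjSpace.toSpec n R) (CohB1.ProjSpace.toSpec n (ULift.{u} ℤ))
      (specULiftZIsTerminal.from (Spec (CommRingCat.of R))) := by
  letI : Algebra (ULift.{u} ℤ) R := ((Int.castRingHom R).comp ULift.ringEquiv.toRingHom).toAlgebra
  let φ : CohB1.polyGrading n (ULift.{u} ℤ) →+*ᵍ CohB1.polyGrading n R :=
    { MvPolynomial.map (σ := Fin (n + 1)) (algebraMap (ULift.{u} ℤ) R) with
      map_mem := fun {i x} hx => MvPolynomial.IsHomogeneous.map hx _ }
  have hφA : ∀ b, φ b = algebraMap (MvPolynomial (Fin (n + 1)) (ULift.{u} ℤ)) (MvPolynomial (Fin (n + 1)) R) b :=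
    fun b => rfl
  have hX : ∀ i, φ (MvPolynomial.X i) = MvPolynomial.X i := fun i => MvPolynomial.map_X _ _
  have hirr : HomogeneousIdeal.irrelevant (CohB1.polyGrading n R) ≤
      (HomogeneousIdeal.irrelevant (CohB1.polyGrading n (ULift.{u} ℤ))).map φ := by
    intro x hx
    have hx0 : MvPolynomial.homogeneousComponent 0 x = 0 := by
      have := (HomogeneousIdeal.mem_irrelevant_iff _ x).mp hx
      exact (MvPolynomial.decomposition.decompose'_apply x 0).symm.trans this
    have hxs : x ∈ Ideal.span ((MvPolynomial.X (R := R)) '' (Set.univ : Set (Fin (n + 1)))) := by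
      rw [MvPolynomial.mem_ideal_span_X_image]
      intro m hm
      by_contra! hcon
      have hm0 : m = 0 := Finsupp.ext fun i => hcon i trivial
      rw [MvPolynomial.homogeneousComponent_zero, MvPolynomial.C_eq_zero] at hx0
      exact MvPolynomial.mem_support_iff.mp hm (hm0 ▸ hx0)
    refine (Ideal.span_le.mpr ?_) hxs
    rintro - ⟨i, -, rfl⟩
    have hX' := Ideal.mem_map_of_mem φ (HomogeneousIdeal.mem_irrelevant_of_mem (CohB1.polyGrading n (ULift.{u} ℤ))
      one_pos (MvPolynomial.isHomogeneous_X (ULift.{u} ℤ) i))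
    exact hX i ▸ hX'
  have h := Groth.Agent.S3554.result (R := R) (R' := ULift.{u} ℤ) (CohB1.polyGrading n (ULift.{u} ℤ))
    (CohB1.polyGrading n R) φ hφA hirr
  refine ⟨Proj.map φ hirr, ?_⟩
  rw [specULiftZIsTerminal.hom_ext (specULiftZIsTerminal.from (Spec (CommRingCat.of R)))
    (Spec.map (CommRingCat.ofHom (algebraMap (ULift.{u} ℤ) R)))]
  exact h

/-- Projective space is proper. -/
theorem isProper_projSpace : IsProper (CohB1.ProjSpace.toSpec n R) := by
  obtain ⟨q, hq⟩ := exists_projSpace_map n R
  exact MorphismProperty.of_isPullback hq (ChowLib.isProper_toSpec n)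

end GeomSmoothingLib
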