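import Groth.Agent.RichLib.FlatColimit
import Groth.Agent.RichLib.FlatModel
import Mathlib

/-!
# Flat quotients of an extended algebra come from a stage of finite type
-/

set_option autoImplicit false
set_option linter.style.haveILetI false
set_option synthInstance.maxHeartbeats 400000
set_option maxHeartbeats 2000000
universe u

open scoped TensorProduct

noncomputable section

namespace GeomSmoothingLib

variable (k : Type u) [CommRing k] (R : Type u) [CommRing R] [Algebra k R]

/-- The extension map between the extended algebras. -/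
def extMap (A A' : Type u) [CommRing A] [Algebra k A] [CommRing A'] [Algebra k A'] [Algebra A A']
    [IsScalarTower k A A'] : A ⊗[k] R →ₐ[A] A' ⊗[k] R :=
  Algebra.TensorProduct.map (Algebra.ofId A A') (AlgHom.id k R)

variable {k R}

/-- Base change of a quotient of an extended algebra. -/
def quotIso (A A' : Type u) [CommRing A] [Algebra k A] [CommRing A'] [Algebra k A'] [Algebra A A']
    [IsScalarTower k A A'] (I : Ideal (A ⊗[k] R)) :
    A' ⊗[A] ((A ⊗[k] R) ⧸ I) ≃ₐ[A'] (A' ⊗[k] R) ⧸ I.map (extMap k R A A').toRingHom :=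
  let e : A' ⊗[A] (A ⊗[k] R) ≃ₐ[A'] A' ⊗[k] R := Algebra.TensorProduct.cancelBaseChange k A A' A' R
  (Algebra.TensorProduct.tensorQuotientEquiv A' (A ⊗[k] R) A' I).trans
    (Ideal.quotientEquivAlg _ _ e (by
      refine Eq.trans ?_ (Ideal.map_map (Algebra.TensorProduct.includeRight : A ⊗[k] R →ₐ[A] A' ⊗[A] (A ⊗[k] R)).toRingHom
        e.toAlgHom.toRingHom (I := I)).symm
      congr 1
      refine RingHom.ext fun x => ?_
      induction x using TensorProduct.induction_on with
      | zero => simp
      | tmul a r => simp [e, extMap, Algebra.ofId_apply, Algebra.smul_def]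
      | add x y hx hy => simp only [map_add, hx, hy]))

theorem quotIso_tmul (A A' : Type u) [CommRing A] [Algebra k A] [CommRing A'] [Algebra k A'] [Algebra A A']
    [IsScalarTower k A A'] (I : Ideal (A ⊗[k] R)) (a' : A') (x : A ⊗[k] R) :
    quotIso A A' I (a' ⊗ₜ Ideal.Quotient.mk I x) = a' • Ideal.Quotient.mk _ (extMap k R A A' x) := by
  induction x using TensorProduct.induction_on with
  | zero =>
    rw [map_zero (Ideal.Quotient.mk I), TensorProduct.tmul_zero, map_zero, map_zero]
    exact (smul_zero a').symm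
  | tmul a r =>
    show Ideal.Quotient.mk _ (Algebra.TensorProduct.cancelBaseChange k A A' A' R (a' ⊗ₜ (a ⊗ₜ r))) =
      Ideal.Quotient.mk _ (a' • extMap k R A A' (a ⊗ₜ r))
    congr 1
    simp [extMap, Algebra.ofId_apply, Algebra.smul_def, mul_comm]
  | add x y hx hy => simp only [map_add, TensorProduct.tmul_add, hx, hy, smul_add]

theorem flat_map (A A' : Type u) [CommRing A] [Algebra k A] [CommRing A'] [Algebra k A'] [Algebra A A']
    [IsScalarTower k A A'] (I : Ideal (A ⊗[k] R)) [Module.Flat A ((A ⊗[k] R) ⧸ I)] :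
    Module.Flat A' ((A' ⊗[k] R) ⧸ I.map (extMap k R A A').toRingHom) :=
  Module.Flat.of_linearEquiv (quotIso A A' I).symm.toLinearEquiv

/-- A flat ideal is cut out by its extension to a larger ring of scalars. -/
theorem comap_map_eq (A A' : Type u) [CommRing A] [Algebra k A] [CommRing A'] [Algebra k A'] [Algebra A A']
    [IsScalarTower k A A'] (hinj : Function.Injective (algebraMap A A')) (I : Ideal (A ⊗[k] R))
    [Module.Flat A ((A ⊗[k] R) ⧸ I)] :
    (I.map (extMap k R A A').toRingHom).comap (extMap k R A A').toRingHom = I := by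
  refine le_antisymm (fun x hx => ?_) Ideal.le_comap_map
  rw [← Ideal.Quotient.eq_zero_iff_mem]
  have hi : Function.Injective (Algebra.TensorProduct.includeRight :
      (A ⊗[k] R) ⧸ I →ₐ[A] A' ⊗[A] ((A ⊗[k] R) ⧸ I)) :=
    Algebra.TensorProduct.includeRight_injective hinj
  refine hi ((quotIso A A' I).injective ?_)
  rw [map_zero, map_zero, Algebra.TensorProduct.includeRight_apply, quotIso_tmul, one_smul,
    Ideal.Quotient.eq_zero_iff_mem]
  exact hx

theorem extMap_comp (A A' A'' : Type u) [CommRing A] [Algebra k A] [CommRing A'] [Algebra k A'] [CommRing A'']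
    [Algebra k A''] [Algebra A A'] [IsScalarTower k A A'] [Algebra A A''] [IsScalarTower k A A'']
    [Algebra A' A''] [IsScalarTower k A' A''] [IsScalarTower A A' A''] :
    (extMap k R A' A'').toRingHom.comp (extMap k R A A').toRingHom = (extMap k R A A'').toRingHom := by
  refine RingHom.ext fun x => ?_
  induction x using TensorProduct.induction_on with
  | zero => simp
  | tmul a r => simp [extMap, Algebra.ofId_apply, ← IsScalarTower.algebraMap_apply]
  | add x y hx hy => simp only [map_add, hx, hy]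

section Stage

variable (T : Type u) [CommRing T] [Algebra k T]

/-- An element of the extended algebra comes from a stage of finite type. -/
theorem exists_lift (x : T ⊗[k] R) :
    ∃ A : Subalgebra k T, A.FG ∧ x ∈ Set.range (extMap k R A T) := by
  induction x using TensorProduct.induction_on with
  | zero => exact ⟨⊥, Subalgebra.fg_bot, 0, map_zero _⟩
  | tmul a r =>
    refine ⟨Algebra.adjoin k {a}, Subalgebra.fg_def.2 ⟨{a}, Set.finite_singleton a, rfl⟩,
      (⟨a, Algebra.subset_adjoin rfl⟩ : Algebra.adjoin k {a}) ⊗ₜ r, ?_⟩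
    simp [extMap, Algebra.ofId_apply]
  | add x y hx hy =>
    obtain ⟨A, hA, x', rfl⟩ := hx
    obtain ⟨B, hB, y', rfl⟩ := hy
    let C := A ⊔ B
    letI : Algebra A C := (Subalgebra.inclusion (le_sup_left : A ≤ C)).toRingHom.toAlgebra
    letI : Algebra B C := (Subalgebra.inclusion (le_sup_right : B ≤ C)).toRingHom.toAlgebra
    haveI : IsScalarTower k A C := IsScalarTower.of_algebraMap_eq fun _ => rfl
    haveI : IsScalarTower k B C := IsScalarTower.of_algebraMap_eq fun _ => rfl
    haveI : IsScalarTower A C T := IsScalarTower.of_algebraMap_eq fun _ => rfl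
    haveI : IsScalarTower B C T := IsScalarTower.of_algebraMap_eq fun _ => rfl
    refine ⟨C, hA.sup hB, extMap k R A C x' + extMap k R B C y', ?_⟩
    rw [map_add]
    congr 1
    · exact RingHom.congr_fun (extMap_comp A C T) x'
    · exact RingHom.congr_fun (extMap_comp B C T) y'

/-- The ideals of the stages of finite type above a given one: flat, and extending to the given ideal. -/
def GoodStage (J : Ideal (T ⊗[k] R)) (A : Subalgebra k T) : Prop :=
  Module.Flat A ((A ⊗[k] R) ⧸ J.comap (extMap k R A T).toRingHom) ∧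
    (J.comap (extMap k R A T).toRingHom).map (extMap k R A T).toRingHom = J

theorem goodStage_of_map {J : Ideal (T ⊗[k] R)} (A : Subalgebra k T) (I : Ideal (A ⊗[k] R))
    [Module.Flat A ((A ⊗[k] R) ⧸ I)] (hI : I.map (extMap k R A T).toRingHom = J) : GoodStage T J A := by
  have hc : J.comap (extMap k R A T).toRingHom = I := by
    rw [← hI]
    exact comap_map_eq A T Subtype.val_injective I
  rw [GoodStage, hc]
  exact ⟨inferInstance, hI⟩

theorem GoodStage.mono {J : Ideal (T ⊗[k] R)} {A A' : Subalgebra k T} (h : GoodStage T J A) (hle : A ≤ A') :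
    GoodStage T J A' := by
  letI : Algebra A A' := (Subalgebra.inclusion hle).toRingHom.toAlgebra
  haveI : IsScalarTower k A A' := IsScalarTower.of_algebraMap_eq fun _ => rfl
  haveI : IsScalarTower A A' T := IsScalarTower.of_algebraMap_eq fun _ => rfl
  haveI := h.1
  haveI := flat_map A A' (J.comap (extMap k R A T).toRingHom)
  refine goodStage_of_map T A' ((J.comap (extMap k R A T).toRingHom).map (extMap k R A A').toRingHom) ?_
  rw [Ideal.map_map, extMap_comp A A' T]
  exact h.2

variable [Algebra.FiniteType k R]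

/-- A flat finitely generated ideal comes from a stage of finite type. -/
theorem exists_goodStage [IsNoetherianRing k] (J : Ideal (T ⊗[k] R)) (hJ : J.FG)
    [Module.Flat T ((T ⊗[k] R) ⧸ J)] : ∃ A : Subalgebra k T, A.FG ∧ GoodStage T J A := by
  classical
  obtain ⟨s, hs⟩ := hJ
  -- lift the generators
  have hlift : ∀ t : Finset (T ⊗[k] R), ∃ A : Subalgebra k T, A.FG ∧ ∀ x ∈ t, x ∈ Set.range (extMap k R A T) := by
    intro t
    induction t using Finset.induction with
    | empty => exact ⟨⊥, Subalgebra.fg_bot, by simp⟩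
    | insert a t _ ih =>
      obtain ⟨A, hA, ha⟩ := ih
      obtain ⟨B, hB, hb⟩ := exists_lift T a
      refine ⟨A ⊔ B, hA.sup hB, fun x hx => ?_⟩
      have key : ∀ D : Subalgebra k T, D ≤ A ⊔ B →
          Set.range (extMap k R D T) ⊆ Set.range (extMap k R (A ⊔ B : Subalgebra k T) T) := by
        rintro D hD _ ⟨y, rfl⟩
        letI : Algebra D (A ⊔ B : Subalgebra k T) := (Subalgebra.inclusion hD).toRingHom.toAlgebra
        haveI : IsScalarTower k D (A ⊔ B : Subalgebra k T) := IsScalarTower.of_algebraMap_eq fun _ => rfl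
        haveI : IsScalarTower D (A ⊔ B : Subalgebra k T) T := IsScalarTower.of_algebraMap_eq fun _ => rfl
        exact ⟨extMap k R D (A ⊔ B : Subalgebra k T) y, RingHom.congr_fun (extMap_comp D _ T) y⟩
      rcases Finset.mem_insert.1 hx with rfl | hx
      · exact key B le_sup_right hb
      · exact key A le_sup_left (ha x hx)
  obtain ⟨A₀, hA₀, hgen⟩ := hlift s
  choose g hg using hgen
  let I₀ : Ideal (A₀ ⊗[k] R) := Ideal.span (Set.range fun x : s => g x x.2)
  have hI₀ : I₀.map (extMap k R A₀ T).toRingHom = J := by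
    rw [Ideal.map_span, ← hs, ← Set.range_comp]
    congr 1
    ext y
    constructor
    · rintro ⟨x, rfl⟩
      show (extMap k R A₀ T) (g x x.2) ∈ _
      rw [hg]; exact x.2
    · intro hy
      exact ⟨⟨y, hy⟩, hg y hy⟩
  haveI : Algebra.FiniteType k A₀ := A₀.fg_iff_finiteType.1 hA₀
  haveI : IsNoetherianRing A₀ := Algebra.FiniteType.isNoetherianRing k A₀
  haveI : Algebra.FiniteType A₀ ((A₀ ⊗[k] R) ⧸ I₀) := inferInstance
  haveI : Algebra.FinitePresentation A₀ ((A₀ ⊗[k] R) ⧸ I₀) :=
    (Algebra.FinitePresentation.of_finiteType (R := A₀) (A := (A₀ ⊗[k] R) ⧸ I₀)).1 inferInstance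
  haveI : Module.Flat T (T ⊗[A₀] ((A₀ ⊗[k] R) ⧸ I₀)) := by
    haveI : Module.Flat T ((T ⊗[k] R) ⧸ I₀.map (extMap k R A₀ T).toRingHom) := by rw [hI₀]; infer_instance
    exact Module.Flat.of_linearEquiv (quotIso A₀ T I₀).toLinearEquiv
  obtain ⟨⟨A₁, hA₁⟩, hflat⟩ := (RichLib.FlatColimit.flat_iff_exists_stage
    (fun S : {S : Subalgebra A₀ T // S.FG} => S.1) (fun _ _ h => Subalgebra.inclusion h) T
    (RichLib.FlatModel.isDirectedColimitRing_fg A₀ T) (B₀ := (A₀ ⊗[k] R) ⧸ I₀) ((A₀ ⊗[k] R) ⧸ I₀)).1 inferInstance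
  haveI : Module.Flat A₁ (A₁ ⊗[A₀] ((A₀ ⊗[k] R) ⧸ I₀)) := hflat
  let A₁' : Subalgebra k T := A₁.restrictScalars k
  have hle : A₀ ≤ A₁' := fun x hx => A₁.algebraMap_mem (⟨x, hx⟩ : A₀)
  letI : Algebra A₀ A₁' := (Subalgebra.inclusion hle).toRingHom.toAlgebra
  haveI : IsScalarTower k A₀ A₁' := IsScalarTower.of_algebraMap_eq fun _ => rfl
  haveI : IsScalarTower A₀ A₁' T := IsScalarTower.of_algebraMap_eq fun _ => rfl
  refine ⟨A₁', ?_, ?_⟩
  · haveI : Algebra.FiniteType A₀ A₁ := A₁.fg_iff_finiteType.1 hA₁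
    haveI : Algebra.FiniteType k A₁ := Algebra.FiniteType.trans (S := A₀) inferInstance inferInstance
    exact A₁'.fg_iff_finiteType.2 ‹Algebra.FiniteType k A₁›
  · haveI : Module.Flat A₁' (A₁' ⊗[A₀] ((A₀ ⊗[k] R) ⧸ I₀)) := hflat
    haveI : Module.Flat A₁' ((A₁' ⊗[k] R) ⧸ I₀.map (extMap k R A₀ A₁').toRingHom) :=
      Module.Flat.of_linearEquiv (quotIso A₀ A₁' I₀).symm.toLinearEquiv
    refine goodStage_of_map T A₁' (I₀.map (extMap k R A₀ A₁').toRingHom) ?_
    rw [Ideal.map_map, extMap_comp A₀ A₁' T, hI₀]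

end Stage

end GeomSmoothingLib
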